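import Groth.Agent.Curves.K101.SpreadAux
import Groth.Agent.S16186
import Groth.Prelude.Def_Curve
import Groth.Prelude.Def_CohB1
import Groth.Prelude.Def_Mor2

/-!
# From a family of curves over `k⟦X⟧` to a family over a smooth curve

`spread`: let `C₀` be a smooth proper curve over an algebraically closed field `k` and `p : X ⟶ Spec k⟦X⟧` a proper flat
morphism with closed fibre `C₀` whose generic fibre has a finite locally free morphism of degree `d` to `P^1`. Then there
is a smooth proper family over a smooth curve `T`, with fibre `C₀` over a rational point `t₀`, all of whose fibres over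
the other rational points have a finite locally free morphism of degree `d` to `P^1`.
-/

set_option autoImplicit false

universe u

open CategoryTheory CategoryTheory.Limits AlgebraicGeometry

namespace K101.Spread

open Groth.Agent.Pi1A.FGLimit Groth.Agent.CohqB.ProjBC

theorem isFinLocFreeOfDeg_of_isPullback {d : ℕ} {P X Y S : Scheme.{u}} {a : P ⟶ X} {b : P ⟶ Y} {f : X ⟶ S} {g : Y ⟶ S}
    (h : IsPullback a b f g) (hf : Mor2.IsFinLocFreeOfDeg d f) : Mor2.IsFinLocFreeOfDeg d b :=
  MorphismProperty.of_isPullback (P := K340.Degree.FLF d) h hf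

/-- A family of finite locally free morphisms of degree `d` to projective space, restricted along a point. -/
theorem exists_map {A B K : Type u} [CommRing A] [CommRing B] [Algebra A B] [CommRing K] {X₀ XB W : Scheme.{u}}
    {n d : ℕ} {f : X₀ ⟶ Spec (CommRingCat.of A)} {fB : XB ⟶ Spec (CommRingCat.of B)} {aB : XB ⟶ X₀}
    (hB1 : IsPullback aB fB f (toBase A B)) (ρB : XB ⟶ CohB1.ProjSpace n B)
    (hB2 : ρB ≫ CohB1.ProjSpace.toSpec n B = fB) (hB3 : Mor2.IsFinLocFreeOfDeg d ρB) (μ : B →+* K) {w : W ⟶ X₀}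
    {b : W ⟶ Spec (CommRingCat.of K)} {m : Spec (CommRingCat.of K) ⟶ Spec (CommRingCat.of A)}
    (hW : IsPullback w b f m) (hm : Spec.map (CommRingCat.ofHom μ) ≫ toBase A B = m) :
    ∃ π : W ⟶ CohB1.ProjSpace n K, π ≫ CohB1.ProjSpace.toSpec n K = b ∧ Mor2.IsFinLocFreeOfDeg d π := by
  subst hm
  obtain ⟨v, hv1, hv2⟩ : ∃ v : W ⟶ XB, v ≫ aB = w ∧ v ≫ fB = b ≫ Spec.map (CommRingCat.ofHom μ) :=
    ⟨hB1.lift w (b ≫ Spec.map (CommRingCat.ofHom μ)) (by rw [hW.w, Category.assoc]), hB1.lift_fst _ _ _,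
      hB1.lift_snd _ _ _⟩
  have hv : IsPullback v b fB (Spec.map (CommRingCat.ofHom μ)) := by
    refine IsPullback.of_right ?_ hv2 hB1
    rw [hv1]
    exact hW
  obtain ⟨π, hπ1, hπ⟩ : ∃ π : W ⟶ CohB1.ProjSpace n K, π ≫ pmap μ n = v ≫ ρB ∧ π ≫ CohB1.ProjSpace.toSpec n K = b :=
    ⟨(isPullback_pmap μ n).lift (v ≫ ρB) b (by rw [Category.assoc, hB2, hv.w]), IsPullback.lift_fst _ _ _ _,
      IsPullback.lift_snd _ _ _ _⟩
  have hπ2 : IsPullback v π ρB (pmap μ n) := by
    refine IsPullback.of_bot ?_ hπ1.symm (isPullback_pmap μ n)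
    rw [hπ, hB2]
    exact hv
  exact ⟨π, hπ, isFinLocFreeOfDeg_of_isPullback hπ2 hB3⟩

theorem spread (k : Type u) [Field k] [IsAlgClosed k] (C₀ : Scheme.{u}) (g₀ : C₀ ⟶ Spec (CommRingCat.of k))
    (hC₀ : Curve.IsSmoothProperCurve k C₀ g₀) (d : ℕ)
    (X : Scheme.{u}) (p : X ⟶ Spec (CommRingCat.of (PowerSeries k))) [IsProper p] [Flat p] (i : C₀ ⟶ X)
    (hi : IsPullback i g₀ p (Spec.map (CommRingCat.ofHom (PowerSeries.constantCoeff (R := k)))))
    (F : Type u) [Field F] [Algebra (PowerSeries k) F] [IsFractionRing (PowerSeries k) F]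
    (ρ : pullback p (Spec.map (CommRingCat.ofHom (algebraMap (PowerSeries k) F))) ⟶ CohB1.ProjSpace 1 F)
    (hρ : ρ ≫ CohB1.ProjSpace.toSpec 1 F = pullback.snd _ _) (hdeg : Mor2.IsFinLocFreeOfDeg d ρ) :
    ∃ (T : Scheme.{u}) (q : T ⟶ Spec (CommRingCat.of k)) (t₀ : Spec (CommRingCat.of k) ⟶ T) (X : Scheme.{u})
      (f : X ⟶ T) (i : C₀ ⟶ X),
      Smooth q ∧ IsIntegral T ∧ topologicalKrullDim T = 1 ∧ t₀ ≫ q = 𝟙 _ ∧ Smooth f ∧ IsProper f ∧
      IsPullback i g₀ f t₀ ∧
      ∀ (t : Spec (CommRingCat.of k) ⟶ T), t ≫ q = 𝟙 _ → t ≠ t₀ →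
        ∃ π : pullback f t ⟶ CohB1.ProjSpace 1 k, π ≫ CohB1.ProjSpace.toSpec 1 k = pullback.snd f t ∧
          Mor2.IsFinLocFreeOfDeg d π := by
  obtain ⟨hg₁, hg₂, hg₃, hg₄⟩ := hC₀
  have hnoeth : IsLocallyNoetherian (Spec (CommRingCat.of (PowerSeries k))) := inferInstance
  have hlfp : LocallyOfFinitePresentation p := Groth.Agent.S16186.lfp_of_noetherian p
  obtain ⟨A, hAfg, hXA, X₀, f, q, hq, hf1, hf2, hf3⟩ :=
    Groth.Agent.S16186.exists_model k (PowerSeries k) p PowerSeries.X
  -- the stage of the morphism to the projective line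
  have hW : IsPullback (pullback.fst p (Spec.map (CommRingCat.ofHom (algebraMap (PowerSeries k) F))) ≫ q)
      (pullback.snd p (Spec.map (CommRingCat.ofHom (algebraMap (PowerSeries k) F)))) f (toBase A F) := by
    have h := (IsPullback.of_hasPullback p
      (Spec.map (CommRingCat.ofHom (algebraMap (PowerSeries k) F)))).paste_horiz hq
    rw [← Spec.map_comp, ← CommRingCat.ofHom_comp] at h
    exact h
  obtain ⟨s, XB, fB, aB, ρB, hB1, hB2, hB3⟩ := K101.Stage.exists_stage f 1 d hW ρ hρ hdeg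
  obtain ⟨A', hle, hA'fg, b, hb, β, hβ⟩ := K101.Den.exists_denominators k A hAfg s
  have hft : Algebra.FiniteType k A' := A'.fg_iff_finiteType.mp hA'fg
  have hdom : IsDomain A' := inferInstance
  let ε : A' →ₐ[k] k := { (PowerSeries.constantCoeff (R := k)).comp A'.val.toRingHom with
    commutes' := fun c => PowerSeries.constantCoeff_C c }
  obtain ⟨D, _, _, _, g, δ, hδ, hgb, hsm, hdim⟩ := K682.CurveThrough.exists_curve k A' ε
    ⟨⟨PowerSeries.X, hle hXA⟩, fun h => PowerSeries.X_ne_zero (congrArg Subtype.val h), PowerSeries.constantCoeff_X⟩ b hb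
  have hftD : Algebra.FiniteType k D := by
    have h : LocallyOfFiniteType (Spec.map (CommRingCat.ofHom (algebraMap k D))) := inferInstance
    rw [HasRingHomProperty.Spec_iff (P := @LocallyOfFiniteType)] at h
    exact (RingHom.finiteType_algebraMap).mp h
  have hN : IsNoetherianRing D := Algebra.FiniteType.isNoetherianRing k D
  -- the family over `Spec D`
  let incl : A →ₐ[k] A' := Subalgebra.inclusion hle
  let γ₀ : Spec (CommRingCat.of D) ⟶ Spec (CommRingCat.of A) := Spec.map (CommRingCat.ofHom (g.comp incl).toRingHom)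
  let c : Spec (CommRingCat.of k) ⟶ Spec (CommRingCat.of D) := Spec.map (CommRingCat.ofHom δ.toRingHom)
  have hcγ : c ≫ γ₀ = Spec.map (CommRingCat.ofHom (PowerSeries.constantCoeff (R := k))) ≫
      Spec.map (CommRingCat.ofHom A.val.toRingHom) := by
    rw [← Spec.map_comp, ← Spec.map_comp, ← CommRingCat.ofHom_comp, ← CommRingCat.ofHom_comp]
    have : δ.toRingHom.comp (g.comp incl).toRingHom = (PowerSeries.constantCoeff (R := k)).comp A.val.toRingHom := by
      ext x
      exact DFunLike.congr_fun hδ (incl x)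
    rw [this]
  let f₁ : pullback f γ₀ ⟶ Spec (CommRingCat.of D) := pullback.snd f γ₀
  have hpb₁ : IsPullback (pullback.fst f γ₀) f₁ f γ₀ := IsPullback.of_hasPullback _ _
  have hi' := hi.paste_horiz hq
  rw [← hcγ] at hi'
  let i₁ : C₀ ⟶ pullback f γ₀ := hpb₁.lift (i ≫ q) (g₀ ≫ c) (by rw [hi'.w, Category.assoc])
  have hi₁ : IsPullback i₁ g₀ f₁ c := by
    refine IsPullback.of_right ?_ (hpb₁.lift_snd _ _ _) hpb₁
    rw [hpb₁.lift_fst]
    exact hi'
  obtain ⟨U, hU1, hU2⟩ := K682.SmoothNear.exists_open hi₁ hg₂ (IsLocalRing.closedPoint k)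
  -- shrinking the base
  obtain ⟨h, hδh, hhU, hhσ⟩ := K101.Loc.exists_h hdim δ (g b) hgb (U : Set (Spec (CommRingCat.of D))) U.2 (by
    have h0 : (PrimeSpectrum.comap δ.toRingHom (⊥ : PrimeSpectrum k) : PrimeSpectrum D) =
        c (IsLocalRing.closedPoint k) := by
      have h1 : (⊥ : PrimeSpectrum k) = IsLocalRing.closedPoint k := Subsingleton.elim _ _
      rw [h1]
      rfl
    rw [h0]
    exact hU1)
  have hh0 : h ≠ 0 := by
    rintro rfl
    exact hδh (map_zero δ)
  let Dh := Localization.Away h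
  have hDh : IsDomain Dh := IsLocalization.isDomain_localization (powers_le_nonZeroDivisors_of_noZeroDivisors hh0)
  let δ' : Dh →ₐ[k] k := IsLocalization.liftAlgHom (M := Submonoid.powers h) (S := Dh) (f := δ) (by
    rintro ⟨_, n, rfl⟩
    change IsUnit (δ (h ^ n))
    rw [map_pow]
    exact (isUnit_iff_ne_zero.mpr hδh).pow n)
  have hδ' : ∀ x : D, δ' (algebraMap D Dh x) = δ x := fun x => IsLocalization.lift_eq _ _
  have hdim' : ringKrullDim Dh = 1 := K101.Loc.ringKrullDim_away hdim h hh0 δ'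
  let T := Spec (CommRingCat.of Dh)
  let qT : T ⟶ Spec (CommRingCat.of k) := Spec.map (CommRingCat.ofHom (algebraMap k Dh))
  let u : T ⟶ Spec (CommRingCat.of D) := Spec.map (CommRingCat.ofHom (algebraMap D Dh))
  have hu : IsOpenImmersion u := inferInstance
  let t₀ : Spec (CommRingCat.of k) ⟶ T := Spec.map (CommRingCat.ofHom δ'.toRingHom)
  have ht₀u : t₀ ≫ u = c := by
    rw [← Spec.map_comp, ← CommRingCat.ofHom_comp]
    have : δ'.toRingHom.comp (algebraMap D Dh) = δ.toRingHom := RingHom.ext hδ'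
    rw [this]
  let fT : pullback f₁ u ⟶ T := pullback.snd f₁ u
  have hpbT : IsPullback (pullback.fst f₁ u) fT f₁ u := IsPullback.of_hasPullback _ _
  have hi₁' := hi₁
  rw [← ht₀u] at hi₁'
  refine ⟨T, qT, t₀, pullback f₁ u, fT, hpbT.lift i₁ (g₀ ≫ t₀) (by rw [hi₁'.w, Category.assoc]), ?_, inferInstance, ?_,
    ?_, ?_, inferInstance, ?_, ?_⟩
  · have h1 : qT = u ≫ Spec.map (CommRingCat.ofHom (algebraMap k D)) := by
      rw [← Spec.map_comp, ← CommRingCat.ofHom_comp, ← IsScalarTower.algebraMap_eq]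
    rw [h1]
    infer_instance
  · rw [← hdim']
    exact PrimeSpectrum.topologicalKrullDim_eq_ringKrullDim (R := Dh)
  · rw [← Spec.map_comp, ← CommRingCat.ofHom_comp]
    have h5 : δ'.toRingHom.comp (algebraMap k Dh) = RingHom.id k := δ'.comp_algebraMap
    exact (congrArg (fun t => Spec.map (CommRingCat.ofHom t)) h5).trans (Spec.map_id _)
  · refine K682.SmoothNear.smooth_of_forall_mem hpbT fun z => ?_
    apply hU2
    have h3 : f₁ (pullback.fst f₁ u z) = u (fT z) := by
      rw [← Scheme.Hom.comp_apply, hpbT.w, Scheme.Hom.comp_apply]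
    rw [h3]
    refine hhU (PrimeSpectrum.comap (algebraMap D Dh) (fT z)) ?_
    intro h4
    exact (fT z : PrimeSpectrum Dh).2.ne_top (Ideal.eq_top_of_isUnit_mem _ h4 (IsLocalization.Away.algebraMap_isUnit h))
  · refine IsPullback.of_right ?_ (hpbT.lift_snd _ _ _) hpbT
    rw [hpbT.lift_fst]
    exact hi₁'
  · intro t htq htne
    -- the ring homomorphism of `t`
    obtain ⟨τ, hτ⟩ : ∃ τ : Dh →+* k, t = Spec.map (CommRingCat.ofHom τ) := ⟨(Spec.preimage t).hom, (Spec.map_preimage t).symm⟩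
    have hτk : ∀ x : k, τ (algebraMap k Dh x) = x := by
      rw [hτ, ← Spec.map_comp, ← CommRingCat.ofHom_comp] at htq
      have h6 : CommRingCat.ofHom (τ.comp (algebraMap k Dh)) = 𝟙 _ := Spec.map_injective (htq.trans (Spec.map_id _).symm)
      exact fun x => DFunLike.congr_fun (congrArg CommRingCat.Hom.hom h6) x
    let σ : D →ₐ[k] k := { τ.comp (algebraMap D Dh) with
      commutes' := fun x => (congrArg τ (IsScalarTower.algebraMap_apply k D Dh x).symm).trans (hτk x) }
    have hσh : σ h ≠ 0 := ((IsLocalization.Away.algebraMap_isUnit (S := Dh) h).map τ).ne_zero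
    have hσb : σ (g b) ≠ 0 := by
      intro h0
      apply htne
      have h7 := hhσ σ h0 hσh
      rw [hτ]
      have h8 : τ = δ'.toRingHom := by
        apply IsLocalization.ringHom_ext (Submonoid.powers h)
        ext x
        exact (DFunLike.congr_fun h7 x).trans (hδ' x).symm
      rw [h8]
    let lam : Localization.Away b →+* k :=
      IsLocalization.Away.lift b (g := (σ.comp g).toRingHom) (isUnit_iff_ne_zero.mpr hσb)
    have hlam : ∀ x, lam (algebraMap A' _ x) = σ (g x) := fun x => IsLocalization.Away.lift_eq b _ x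
    let μ : Algebra.adjoin A (s : Set F) →+* k := lam.comp β
    let m : Spec (CommRingCat.of k) ⟶ Spec (CommRingCat.of (Algebra.adjoin A (s : Set F))) :=
      Spec.map (CommRingCat.ofHom μ)
    have hm : m ≫ toBase A (Algebra.adjoin A (s : Set F)) = t ≫ u ≫ γ₀ := by
      rw [hτ, ← Spec.map_comp, ← Spec.map_comp, ← Spec.map_comp, ← CommRingCat.ofHom_comp, ← CommRingCat.ofHom_comp,
        ← CommRingCat.ofHom_comp]
      congr 2
      ext x
      exact (congrArg lam (DFunLike.congr_fun hβ x)).trans (hlam (incl x))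
    have hsq : IsPullback (pullback.fst fT t ≫ pullback.fst f₁ u ≫ pullback.fst f γ₀) (pullback.snd fT t) f
        (t ≫ u ≫ γ₀) :=
      (IsPullback.of_hasPullback fT t).paste_horiz (hpbT.paste_horiz hpb₁)
    exact exists_map hB1 ρB hB2 hB3 μ hsq hm

end K101.Spread
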