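import Groth.Agent.Pi1A.FGLimit
import Groth.Agent.Lim.K340.Degree
import Groth.Agent.Lim.K340.Descend
import Groth.Agent.CohqB.ProjBC
import Groth.Agent.Fga.QD1Hilb
import Groth.Agent.Sga5.ProjSmooth
import Groth.Agent.Ega3B.ProjProper
import Groth.Agent.UnramA.LfpOfComp
import Groth.Agent.Deform.K682.CurveThrough

/-!
# Auxiliary statements for spreading out a family of curves over `k⟦X⟧`

* `K101.Stage.exists_stage`: let `f : X₀ ⟶ Spec A` be proper and of finite presentation and let `F` be an `A`-algebra; a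
  morphism `X₀ ⊗ F ⟶ P^n_F` over `F`, finite locally free of degree `d`, comes from a finitely generated subalgebra `B` of
  `F`, in the sense that there is a morphism `X₀ ⊗ B ⟶ P^n_B` over `B`, finite locally free of degree `d`.
* `K101.Den.exists_denominators`: common denominators for finitely generated subalgebras of a fraction field.
* `K101.Loc.exists_h`: shrinking a one-dimensional affine scheme around a rational point, so that it lies in a given open
  set and that a given nonzero function has no other rational zero.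
-/

set_option autoImplicit false

universe u

open CategoryTheory CategoryTheory.Limits AlgebraicGeometry

namespace K101.Stage

open Groth.Agent.Pi1A.FGLimit Groth.Agent.CohqB.ProjBC

variable {A F : Type u} [CommRing A] [CommRing F] [Algebra A F] {X₀ : Scheme.{u}} (f : X₀ ⟶ Spec (CommRingCat.of A))

/-- The structure map to `Spec A` of the diagram of the `X₀ ⊗ B`. -/
noncomputable def toA : diag A F f ⟶ (Functor.const _).obj (Spec (CommRingCat.of A)) where
  app i := pbFst (specDiag A F) (specBase A F) f i ≫ f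
  naturality i j h := by
    rw [← Category.assoc]
    refine (congrArg (· ≫ f) (pbDiag_map_fst (specDiag A F) (specBase A F) f h)).trans ?_
    exact (Category.comp_id _).symm

theorem exists_stage [IsProper f] [LocallyOfFinitePresentation f] (n d : ℕ) {W : Scheme.{u}} {a : W ⟶ X₀}
    {b : W ⟶ Spec (CommRingCat.of F)} (hW : IsPullback a b f (toBase A F))
    (ρ : W ⟶ CohB1.ProjSpace n F) (hρ : ρ ≫ CohB1.ProjSpace.toSpec n F = b) (hdeg : Mor2.IsFinLocFreeOfDeg d ρ) :
    ∃ (s : Finset F) (XB : Scheme.{u}) (fB : XB ⟶ Spec (CommRingCat.of (Algebra.adjoin A (s : Set F)))) (aB : XB ⟶ X₀)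
      (ρB : XB ⟶ CohB1.ProjSpace n (Algebra.adjoin A (s : Set F))),
      IsPullback aB fB f (toBase A (Algebra.adjoin A (s : Set F))) ∧
      ρB ≫ CohB1.ProjSpace.toSpec n (Algebra.adjoin A (s : Set F)) = fB ∧ Mor2.IsFinLocFreeOfDeg d ρB := by
  let e : pullback f (toBase A F) ≅ W := hW.isoPullback.symm
  have he₁ : e.hom ≫ a = pullback.fst f (toBase A F) := hW.isoPullback_inv_fst
  have he₂ : e.hom ≫ b = pullback.snd f (toBase A F) := hW.isoPullback_inv_snd
  have hlfp : ∀ (C : Type u) [CommRing C], LocallyOfFinitePresentation (CohB1.ProjSpace.toSpec n C) := fun C _ =>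
    have : Smooth (CohB1.ProjSpace.toSpec n C) := (Groth.Agent.Sga5.ProjSmooth.smooth_toSpec n C).smooth
    inferInstance
  have hfpA := hlfp A
  obtain ⟨i, g, hg₁, hg₂⟩ := Scheme.exists_π_app_comp_eq_of_locallyOfFinitePresentation
    (diag A F f) (toA f) (CohB1.ProjSpace.toSpec n A) (cone A F f) (isLimit A F f)
    (e.hom ≫ ρ ≫ pmap (algebraMap A F) n) (by
      ext i : 2
      change (cone A F f).π.app i ≫ pbFst (specDiag A F) (specBase A F) f i ≫ f =
        (e.hom ≫ ρ ≫ pmap (algebraMap A F) n) ≫ CohB1.ProjSpace.toSpec n A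
      rw [Category.assoc, Category.assoc, pmap_toSpec, reassoc_of% hρ, reassoc_of% he₂, ← pullback.condition]
      exact pbCone_fst_assoc (specDiag A F) (specBase A F) f (specCone A F) (toBase A F)
        (specCone_base A F) i _)
  let B := Algebra.adjoin A (i.unop : Set F)
  have h1 : IsPullback ((cone A F f).π.app i) (pullback.snd f (toBase A F))
      (pullback.snd f (toBase A B)) (Spec.map (CommRingCat.ofHom (algebraMap B F))) :=
    pbCone_isPullback (specDiag A F) (specBase A F) f (specCone A F) (toBase A F)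
      (specCone_base A F) i
  have key : ∃ (g : pullback f (toBase A B) ⟶ CohB1.ProjSpace n A)
      (p : pullback f (toBase A F) ⟶ pullback f (toBase A B)),
      p ≫ g = e.hom ≫ ρ ≫ pmap (algebraMap A F) n ∧
      g ≫ CohB1.ProjSpace.toSpec n A = pullback.fst f (toBase A B) ≫ f ∧
      IsPullback p (pullback.snd f (toBase A F))
        (pullback.snd f (toBase A B)) (Spec.map (CommRingCat.ofHom (algebraMap B F))) :=
    ⟨g, (cone A F f).π.app i, hg₁, hg₂, h1⟩
  obtain ⟨g, p, hg₁, hg₂, hp⟩ := key
  let r : pullback f (toBase A B) ⟶ CohB1.ProjSpace n B :=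
    (isPullback_pmap (algebraMap A B) n).lift g (pullback.snd f (toBase A B)) (by rw [hg₂, pullback.condition])
  have hr1 : r ≫ pmap (algebraMap A B) n = g := IsPullback.lift_fst _ _ _ _
  have hr2 : r ≫ CohB1.ProjSpace.toSpec n B = pullback.snd f (toBase A B) := IsPullback.lift_snd _ _ _ _
  have hcomp : pmap (algebraMap A F) n = pmap (algebraMap B F) n ≫ pmap (algebraMap A B) n :=
    Groth.Agent.Fga.QD1Hilb.pmap_comp (algebraMap A B) (algebraMap B F)
  have hw : p ≫ r = (e.hom ≫ ρ) ≫ pmap (algebraMap B F) n := by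
    apply (isPullback_pmap (algebraMap A B) n).hom_ext
    · rw [Category.assoc, hr1, hg₁, hcomp, Category.assoc, Category.assoc]
    · rw [Category.assoc, hr2, hp.w, Category.assoc, Category.assoc, pmap_toSpec, reassoc_of% hρ, reassoc_of% he₂]
  have hX : IsPullback p (e.hom ≫ ρ) r (pmap (algebraMap B F) n) := by
    have h2 : IsPullback p ((e.hom ≫ ρ) ≫ CohB1.ProjSpace.toSpec n F) (r ≫ CohB1.ProjSpace.toSpec n B)
        (Spec.map (CommRingCat.ofHom (algebraMap B F))) := by
      rw [Category.assoc, hρ, he₂, hr2]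
      exact hp
    exact IsPullback.of_bot h2 hw (isPullback_pmap (algebraMap B F) n)
  have hfpB := hlfp B
  have hfpr : LocallyOfFinitePresentation r := by
    refine Groth.Agent.UnramA.LfpOfComp.lfp_of_comp r (CohB1.ProjSpace.toSpec n B) ?_ inferInstance
    rw [hr2]
    infer_instance
  have hdeg' : Mor2.IsFinLocFreeOfDeg d (e.hom ≫ ρ) := by
    have h : IsPullback e.hom (e.hom ≫ ρ) ρ (𝟙 _) := IsPullback.of_horiz_isIso ⟨by rw [Category.comp_id]⟩
    exact MorphismProperty.of_isPullback (P := K340.Degree.FLF d) h hdeg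
  have h3 : MorphismProperty.RespectsIso (C := Scheme.{u}) @LocallyOfFinitePresentation :=
    MorphismProperty.IsStableUnderBaseChange.respectsIso
  have h4 : MorphismProperty.RespectsIso (K340.Degree.FLF.{u} d) :=
    MorphismProperty.IsStableUnderBaseChange.respectsIso
  have h5 : CompactSpace ((specDiag A F).obj i) := inferInstanceAs (CompactSpace (Spec (CommRingCat.of B)))
  have h6 : QuasiSeparatedSpace ((specDiag A F).obj i) := inferInstanceAs (QuasiSeparatedSpace (Spec (CommRingCat.of B)))
  have h7 : CompactSpace ↥(pullback f (toBase A B)) :=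
    QuasiCompact.compactSpace_of_compactSpace (pullback.snd f (toBase A B))
  have h8 : QuasiSeparatedSpace ↥(pullback f (toBase A B)) :=
    quasiSeparatedSpace_of_quasiSeparated (pullback.snd f (toBase A B))
  have h9 : IsProper (CohB1.ProjSpace.toSpec n B) := Groth.Agent.Ega3B.ProjProper.isProper_toSpec n B
  have h10 : CompactSpace ↥(CohB1.ProjSpace n B) :=
    QuasiCompact.compactSpace_of_compactSpace (CohB1.ProjSpace.toSpec n B)
  have h11 : QuasiSeparatedSpace ↥(CohB1.ProjSpace n B) :=
    quasiSeparatedSpace_of_quasiSeparated (CohB1.ProjSpace.toSpec n B)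
  obtain ⟨j, φ, Xj, Yj, fj, gj, pY, pX, hj1, hj2, hj3⟩ :=
    K340.Descend.exists_of_one (Q := @LocallyOfFinitePresentation) (P := K340.Degree.FLF d)
      (K340.Degree.descendsOne_FLF d) (specDiag A F) (specCone A F) (specIsLimit A F) i r (CohB1.ProjSpace.toSpec n B)
      hfpr (e.hom ≫ ρ) (CohB1.ProjSpace.toSpec n F) (pmap (algebraMap B F) n) p (isPullback_pmap (algebraMap B F) n) hX
      hdeg'
  let B' := Algebra.adjoin A (j.unop : Set F)
  have hle : B ≤ B' := Algebra.adjoin_mono (by exact_mod_cast leOfHom φ.unop)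
  let incl : B →+* B' := (Subalgebra.inclusion hle).toRingHom
  obtain ⟨gj, hj1'⟩ : ∃ gj : Yj ⟶ Spec (CommRingCat.of B'),
      IsPullback pY gj (CohB1.ProjSpace.toSpec n B) (Spec.map (CommRingCat.ofHom incl)) := ⟨gj, hj1⟩
  let e' : Yj ≅ CohB1.ProjSpace n B' := hj1'.isoIsPullback _ _ (isPullback_pmap incl n)
  have he' : e'.hom ≫ CohB1.ProjSpace.toSpec n B' = gj := IsPullback.isoIsPullback_hom_snd _ _ _ _
  refine ⟨j.unop, Xj, fj ≫ gj, pX ≫ pullback.fst f (toBase A B), fj ≫ e'.hom, ?_, ?_, ?_⟩
  · have h12 : IsPullback pX (fj ≫ gj) (pullback.snd f (toBase A B)) (Spec.map (CommRingCat.ofHom incl)) := by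
      rw [← hr2]
      exact hj2.paste_vert hj1'
    have h13 := h12.paste_horiz (IsPullback.of_hasPullback f (toBase A B))
    have h14 : Spec.map (CommRingCat.ofHom incl) ≫ toBase A B = toBase A B' := by
      rw [← Spec.map_comp, ← CommRingCat.ofHom_comp]
      rfl
    rw [h14] at h13
    exact h13
  · rw [Category.assoc, he']
  · have h' : IsPullback (𝟙 _) (fj ≫ e'.hom) fj (inv e'.hom) := IsPullback.of_horiz_isIso ⟨by simp⟩
    exact MorphismProperty.of_isPullback (P := K340.Degree.FLF d) h' hj3

end K101.Stage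

namespace K101.Den

theorem exists_denominators (k : Type u) {R F : Type u} [CommRing k] [CommRing R] [IsDomain R] [Algebra k R] [Field F]
    [Algebra R F] [IsFractionRing R F] (A : Subalgebra k R) (hA : A.FG) (s : Finset F) :
    ∃ (A' : Subalgebra k R) (hle : A ≤ A') (_ : A'.FG) (b : A') (_ : b ≠ 0)
      (β : Algebra.adjoin A (s : Set F) →+* Localization.Away b), β.comp (algebraMap A _) =
        (algebraMap A' (Localization.Away b)).comp (Subalgebra.inclusion hle).toRingHom := by
  classical
  obtain ⟨b, hb⟩ := IsLocalization.exist_integer_multiples_of_finset (nonZeroDivisors R) s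
  choose r hr using hb
  let A' : Subalgebra k R := A ⊔ Algebra.adjoin k ((insert (b : R) (s.attach.image fun a => r a.1 a.2) : Finset R) : Set R)
  have hle : A ≤ A' := le_sup_left
  have hle2 : Algebra.adjoin k ((insert (b : R) (s.attach.image fun a => r a.1 a.2) : Finset R) : Set R) ≤ A' :=
    le_sup_right
  have hbA : (b : R) ∈ A' := hle2 (Algebra.subset_adjoin (by simp))
  have hrA : ∀ a (ha : a ∈ s), r a ha ∈ A' := fun a ha => hle2 (Algebra.subset_adjoin (by
    simp only [Finset.coe_insert, Finset.coe_image, Set.mem_insert_iff, Set.mem_image]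
    right
    exact ⟨⟨a, ha⟩, Finset.mem_coe.mpr (Finset.mem_attach _ _), rfl⟩))
  let b' : A' := ⟨b, hbA⟩
  have hb' : b' ≠ 0 := fun h => nonZeroDivisors.ne_zero b.2 (congrArg Subtype.val h)
  have hinjRF : Function.Injective (algebraMap R F) := IsFractionRing.injective R F
  have hinj : Function.Injective (algebraMap A' F) := fun x y h => Subtype.ext (hinjRF h)
  have hbF : algebraMap A' F b' ≠ 0 := fun h => hb' (hinj (by rw [h, map_zero]))
  have hunit : IsUnit (algebraMap A' F b') := isUnit_iff_ne_zero.mpr hbF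
  let j : Localization.Away b' →+* F := IsLocalization.Away.lift b' hunit
  have hj : ∀ x : A', j (algebraMap A' (Localization.Away b') x) = algebraMap A' F x := fun x =>
    IsLocalization.Away.lift_eq b' hunit x
  have hjinj : Function.Injective j := by
    refine (IsLocalization.lift_injective_iff (M := Submonoid.powers b') _).mpr fun x y => ?_
    constructor
    · intro h
      have h1 := congrArg j h
      rw [hj, hj] at h1
      exact h1
    · intro h
      exact congrArg _ (hinj h)
  have hmem : ∀ x : Algebra.adjoin A (s : Set F), (x : F) ∈ j.range := by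
    rintro ⟨x, hx⟩
    change x ∈ j.range
    induction hx using Algebra.adjoin_induction with
    | mem x hx =>
      refine ⟨IsLocalization.Away.invSelf b' * algebraMap A' _ ⟨r x hx, hrA x hx⟩, ?_⟩
      have h1 : algebraMap A' F b' * j (IsLocalization.Away.invSelf b') = 1 := by
        rw [← hj, ← map_mul, IsLocalization.Away.mul_invSelf, map_one]
      apply mul_left_cancel₀ hbF
      rw [map_mul, hj, ← mul_assoc, h1, one_mul]
      exact (hr x hx).trans (Algebra.smul_def _ _)
    | algebraMap a => exact ⟨algebraMap A' _ (Subalgebra.inclusion hle a), hj _⟩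
    | add x y _ _ hx hy => exact add_mem hx hy
    | mul x y _ _ hx hy => exact mul_mem hx hy
  let e : Localization.Away b' ≃+* j.range := RingEquiv.ofBijective j.rangeRestrict
    ⟨fun x y h => hjinj (congrArg Subtype.val h), j.rangeRestrict_surjective⟩
  let β : Algebra.adjoin A (s : Set F) →+* Localization.Away b' :=
    e.symm.toRingHom.comp ((Algebra.adjoin A (s : Set F)).val.toRingHom.codRestrict j.range hmem)
  refine ⟨A', hle, hA.sup (Subalgebra.fg_adjoin_finset _), b', hb', β, ?_⟩
  ext a
  change e.symm _ = algebraMap A' _ (Subalgebra.inclusion hle a)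
  rw [RingEquiv.symm_apply_eq]
  apply Subtype.ext
  exact (hj (Subalgebra.inclusion hle a)).symm

end K101.Den

namespace K101.Loc

variable {k D : Type u} [Field k] [CommRing D] [Algebra k D]

theorem krullDimLE_one {D : Type u} [CommRing D] (hdim : ringKrullDim D = 1) : Ring.KrullDimLE 1 D :=
  (Order.krullDimLE_iff 1 _).mpr (le_of_eq hdim)

theorem ker_ne_bot (hdim : ringKrullDim D = 1) (δ : D →ₐ[k] k) : RingHom.ker δ ≠ ⊥ := by
  intro h
  have hinj : Function.Injective δ := (RingHom.injective_iff_ker_eq_bot δ).mpr h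
  have hsurj : Function.Surjective δ := fun c => ⟨algebraMap k D c, δ.commutes c⟩
  have h1 : ringKrullDim D = ringKrullDim k := ringKrullDim_eq_of_ringEquiv (RingEquiv.ofBijective δ ⟨hinj, hsurj⟩)
  rw [hdim, ringKrullDim_eq_zero_of_field] at h1
  exact one_ne_zero h1

theorem ker_isMaximal (δ : D →ₐ[k] k) : (RingHom.ker δ).IsMaximal :=
  RingHom.ker_isMaximal_of_surjective δ fun c => ⟨algebraMap k D c, δ.commutes c⟩

theorem height_ker [IsDomain D] (hdim : ringKrullDim D = 1) (δ : D →ₐ[k] k) : (RingHom.ker δ).height = 1 := by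
  have hmax := ker_isMaximal δ
  apply le_antisymm
  · have h1 : ((RingHom.ker δ).height : WithBot ℕ∞) ≤ ringKrullDim D := Ideal.height_le_ringKrullDim_of_ne_top hmax.ne_top
    rw [hdim] at h1
    exact_mod_cast h1
  · rw [Order.one_le_iff_ne_zero]
    intro h
    exact ker_ne_bot hdim δ (Ideal.height_eq_zero_iff_eq_bot.mp h)

theorem algHom_eq (σ δ : D →ₐ[k] k) (h : RingHom.ker δ ≤ RingHom.ker σ) : σ = δ := by
  ext a
  have h1 : a - algebraMap k D (δ a) ∈ RingHom.ker δ := by
    rw [RingHom.mem_ker, map_sub, AlgHom.commutes]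
    exact sub_self _
  have h2 := h h1
  rw [RingHom.mem_ker, map_sub, AlgHom.commutes, sub_eq_zero] at h2
  exact h2

theorem exists_h [IsDomain D] [IsNoetherianRing D] (hdim : ringKrullDim D = 1) (δ : D →ₐ[k] k) (c : D) (hc : c ≠ 0)
    (V : Set (PrimeSpectrum D)) (hV : IsOpen V) (hδ : PrimeSpectrum.comap δ.toRingHom (⊥ : PrimeSpectrum k) ∈ V) :
    ∃ h : D, δ h ≠ 0 ∧ (∀ y : PrimeSpectrum D, h ∉ y.asIdeal → y ∈ V) ∧ ∀ σ : D →ₐ[k] k, σ c = 0 → σ h ≠ 0 → σ = δ := by
  classical
  have hK := krullDimLE_one hdim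
  have hmax := ker_isMaximal δ
  have hfin := Ideal.finite_minimalPrimes_of_isNoetherianRing D (Ideal.span {c})
  let S := hfin.toFinset.erase (RingHom.ker δ)
  have hSmax : ∀ P ∈ S, P.IsMaximal := by
    intro P hP
    have hP' : P ∈ (Ideal.span {c}).minimalPrimes := hfin.mem_toFinset.mp (Finset.mem_of_mem_erase hP)
    have : P.IsPrime := hP'.1.1
    refine Ideal.isMaximal_of_isPrime_of_ne_bot P ?_
    rintro rfl
    exact hc (by simpa using hP'.1.2)
  obtain ⟨h₂, h₂S, h₂δ⟩ : ∃ h₂, (∀ P ∈ S, h₂ ∈ P) ∧ h₂ ∉ RingHom.ker δ := by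
    by_contra hcon
    push Not at hcon
    have h1 : S.inf id ≤ RingHom.ker δ := fun x hx => hcon x fun P hP => (Finset.inf_le hP : S.inf id ≤ P) hx
    obtain ⟨P, hP, hle⟩ := (Ideal.IsPrime.inf_le' hmax.isPrime).mp h1
    exact (Finset.ne_of_mem_erase hP) ((hSmax P hP).eq_of_le hmax.ne_top hle)
  obtain ⟨_, ⟨h₁, rfl⟩, h3, h4⟩ := PrimeSpectrum.isTopologicalBasis_basic_opens.exists_subset_of_mem_open hδ hV
  refine ⟨h₁ * h₂, ?_, fun y hy => h4 fun h5 => hy (Ideal.mul_mem_right _ _ h5), fun σ hσc hσh => ?_⟩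
  · rw [map_mul]
    refine mul_ne_zero ?_ h₂δ
    intro h5
    exact h3 (Ideal.mem_bot.mpr h5)
  · have hσp : (RingHom.ker σ).IsPrime := (ker_isMaximal σ).isPrime
    obtain ⟨P, hP, hPle⟩ := Ideal.exists_minimalPrimes_le (I := Ideal.span {c}) (J := RingHom.ker σ)
      ((Ideal.span_singleton_le_iff_mem _).mpr hσc)
    by_cases hPδ : P = RingHom.ker δ
    · exact algHom_eq σ δ (hPδ ▸ hPle)
    · exfalso
      have hPS : P ∈ S := Finset.mem_erase.mpr ⟨hPδ, hfin.mem_toFinset.mpr hP⟩
      apply hσh
      rw [map_mul, show σ h₂ = 0 from hPle (h₂S P hPS), mul_zero]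

theorem ringKrullDim_away [IsDomain D] [Algebra.FiniteType k D] (hdim : ringKrullDim D = 1) (h : D) (hh : h ≠ 0)
    (δ' : Localization.Away h →ₐ[k] k) : ringKrullDim (Localization.Away h) = 1 := by
  have hdom : IsDomain (Localization.Away h) := IsLocalization.isDomain_localization
    (powers_le_nonZeroDivisors_of_noZeroDivisors hh)
  have hft : Algebra.FiniteType k (Localization.Away h) :=
    Algebra.FiniteType.trans (S := D) inferInstance (IsLocalization.finiteType_of_monoid_fg (Submonoid.powers h) _)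
  have hmax := ker_isMaximal δ'
  refine K682.CurveThrough.topologicalKrullDim_of_height k (Localization.Away h) (RingHom.ker δ') ?_
  rw [← IsLocalization.height_under (Submonoid.powers h)]
  exact height_ker hdim (δ'.comp (IsScalarTower.toAlgHom k D (Localization.Away h)))

end K101.Loc
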